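import Groth.Agent.PullStalk.Exact
import Groth.Agent.ClUnit.Basic
import Mathlib.CategoryTheory.Adjunction.Limits
import Mathlib.Algebra.Category.ModuleCat.Colimits
import Mathlib.Algebra.Category.ModuleCat.Limits
import Mathlib.Algebra.Category.ModuleCat.Abelian

/-!
The stalk functor on sheaves of modules is a left adjoint; pushforward along a closed immersion
preserves colimits.
-/

universe u v' u'

open CategoryTheory Limits AlgebraicGeometry Opposite TopologicalSpace
open Groth.Agent.PullStalk.Sky Groth.Agent.PullStalk.Exact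

noncomputable section

namespace Groth.Agent.QCohGen

variable {X : Scheme.{u}}

lemma linearMap_ext_germ {M : X.Modules} {x : X} {N : Type u} [AddCommGroup N]
    [Module (X.presheaf.stalk x) N] {a b : M.presheaf.stalk x →ₗ[X.presheaf.stalk x] N}
    (h : ∀ (U : X.Opens) (hx : x ∈ U) (m : Γ(M, U)), a (germM M U x hx m) = b (germM M U x hx m)) :
    a = b := by
  refine LinearMap.ext fun t ↦ ?_
  obtain ⟨U, hx, m, rfl⟩ := exists_germM_eq M x t
  exact h U hx m

variable (X) in
/-- The stalk at `x`, as a module over the local ring. -/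
def stalkFun (x : X) : X.Modules ⥤ ModuleCat.{u} (X.presheaf.stalk x) where
  obj M := ModuleCat.of _ (M.presheaf.stalk x)
  map φ := ModuleCat.ofHom (stalkLin φ x)
  map_id M := ModuleCat.hom_ext (linearMap_ext_germ fun U hx m ↦ stalkLin_germ (𝟙 M) U x hx m)
  map_comp {M N L} φ ψ := ModuleCat.hom_ext (linearMap_ext_germ fun U hx m ↦
    (stalkLin_germ (φ ≫ ψ) U x hx m).trans (((congrArg (stalkLin ψ x) (stalkLin_germ φ U x hx m)).trans
      (stalkLin_germ ψ U x hx (φ.app U m))).symm))

lemma ofSky_toSky {M : X.Modules} {x : X} {N : Type u} [AddCommGroup N]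
    [Module (X.presheaf.stalk x) N] (φ : M.presheaf.stalk x →ₗ[X.presheaf.stalk x] N) :
    ofSky (toSky φ) = φ :=
  linearMap_ext_germ fun U hx m ↦ (ofSky_germ _ U hx m).trans (toSky_app φ U m ⟨hx⟩)

/-- Maps out of the stalk are maps to the skyscraper. -/
def stalkEquiv (x : X) (M : X.Modules) (N : ModuleCat.{u} (X.presheaf.stalk x)) :
    ((stalkFun X x).obj M ⟶ N) ≃ (M ⟶ sky x N) where
  toFun φ := toSky φ.hom
  invFun ψ := ModuleCat.ofHom (ofSky ψ)
  left_inv φ := ModuleCat.hom_ext (ofSky_toSky φ.hom)
  right_inv ψ := toSky_ofSky ψ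

instance isLeftAdjoint_stalkFun (x : X) : (stalkFun X x).IsLeftAdjoint :=
  ⟨_, ⟨Adjunction.adjunctionOfEquivRight (stalkEquiv x) fun M' M N f g ↦ by
    ext U m
    funext h
    refine (toSky_app _ U m h).trans ?_
    refine Eq.trans ?_ (toSky_app g.hom U (f.app U m) h).symm
    exact congrArg g.hom (stalkLin_germ f U x h.down m)⟩⟩

variable (X) in
/-- The stalk at `x`, as an abelian group. -/
abbrev stalkAb (x : X) : X.Modules ⥤ AddCommGrpCat.{u} :=
  Scheme.Modules.toPresheaf X ⋙ TopCat.Presheaf.stalkFunctor AddCommGrpCat.{u} x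

instance preservesColimits_stalkAb (x : X) :
    PreservesColimitsOfSize.{u, u} (stalkAb X x) := by
  haveI : PreservesColimitsOfSize.{u, u} (stalkFun X x) :=
    (Adjunction.ofIsLeftAdjoint (stalkFun X x)).leftAdjoint_preservesColimits
  exact preservesColimits_of_natIso (NatIso.ofComponents (fun M ↦ Iso.refl _) (fun φ ↦ rfl) :
    stalkFun X x ⋙ forget₂ (ModuleCat.{u} (X.presheaf.stalk x)) AddCommGrpCat.{u} ≅ stalkAb X x)

/-- A functor to `O_X`-modules preserves colimits if all its stalks do. -/
lemma preservesColimitsOfShape_of_stalk {C : Type u'} [Category.{v'} C] {J : Type u}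
    [SmallCategory J] (F : C ⥤ X.Modules)
    (h : ∀ x, PreservesColimitsOfShape J (F ⋙ stalkAb X x)) : PreservesColimitsOfShape J F where
  preservesColimit {D} := ⟨fun {c} hc ↦ ⟨by
    let hl := colimit.isColimit (D ⋙ F)
    haveI : IsIso (hl.desc (F.mapCocone c)) := by
      refine ClUnit.isIso_of_stalks _ fun x ↦ ?_
      haveI := h x
      let h₁ := isColimitOfPreserves (stalkAb X x) hl
      let h₂ : IsColimit ((stalkAb X x).mapCocone (F.mapCocone c)) :=
        isColimitOfPreserves (F ⋙ stalkAb X x) hc
      have e : (stalkAb X x).map (hl.desc (F.mapCocone c)) =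
          (h₁.coconePointUniqueUpToIso h₂).hom := by
        refine h₁.hom_ext fun j ↦ ?_
        rw [IsColimit.comp_coconePointUniqueUpToIso_hom]
        exact ((stalkAb X x).map_comp _ _).symm.trans
          (congrArg (stalkAb X x).map (hl.fac _ j))
      change Function.Bijective ((stalkAb X x).map (hl.desc (F.mapCocone c)))
      rw [e]
      exact ConcreteCategory.bijective_of_isIso _
    exact IsColimit.ofPointIso hl (t := F.mapCocone c)⟩⟩

variable {Z : Scheme.{u}} (i : Z ⟶ X)

/-- Pushforward along a closed immersion preserves colimits. -/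
instance preservesColimits_pushforward [IsClosedImmersion i] :
    PreservesColimitsOfSize.{u, u} (Scheme.Modules.pushforward i) where
  preservesColimitsOfShape {J} _ := by
    refine preservesColimitsOfShape_of_stalk _ fun x ↦ ?_
    by_cases hx : x ∈ Set.range i
    · obtain ⟨z, rfl⟩ := hx
      have hsp : ∀ N : Z.Modules,
          IsIso (TopCat.Presheaf.stalkPushforward AddCommGrpCat.{u} i.base N.presheaf z) :=
        fun N ↦ (ConcreteCategory.isIso_iff_bijective _).mpr
          (ClUnit.stalkPushforward_bijective i N i.isClosedEmbedding.isInducing z)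
      refine preservesColimitsOfShape_of_natIso (NatIso.ofComponents
        (fun N ↦ @asIso _ _ _ _ (TopCat.Presheaf.stalkPushforward AddCommGrpCat.{u} i.base N.presheaf z) (hsp N))
        (fun {N N'} φ ↦ ?_) : Scheme.Modules.pushforward i ⋙ stalkAb X (i z) ≅ stalkAb Z z).symm
      refine TopCat.Presheaf.stalk_hom_ext _ fun U hU ↦ ?_
      ext m
      change TopCat.Presheaf.stalkPushforward AddCommGrpCat.{u} i.base N'.presheaf z
          ((TopCat.Presheaf.stalkFunctor AddCommGrpCat.{u} (i z)).map
            ((Scheme.Modules.pushforward i).map φ).mapPresheaf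
            (((Scheme.Modules.pushforward i).obj N).presheaf.germ U (i z) hU m)) =
        (TopCat.Presheaf.stalkFunctor AddCommGrpCat.{u} z).map φ.mapPresheaf
          (TopCat.Presheaf.stalkPushforward AddCommGrpCat.{u} i.base N.presheaf z
            (((Scheme.Modules.pushforward i).obj N).presheaf.germ U (i z) hU m))
      refine (congrArg _ (TopCat.Presheaf.stalkFunctor_map_germ_apply _ _ _ _ _)).trans ?_
      refine (TopCat.Presheaf.stalkPushforward_germ_apply _ _ _ _ _ _ _).trans ?_
      refine Eq.trans ?_ (congrArg _ (TopCat.Presheaf.stalkPushforward_germ_apply _ _ _ _ _ _ _)).symm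
      refine Eq.trans ?_ (TopCat.Presheaf.stalkFunctor_map_germ_apply _ _ _ _ _).symm
      rfl
    · have hz : ∀ N : Z.Modules, IsZero ((Scheme.Modules.pushforward i ⋙ stalkAb X x).obj N) :=
        fun N ↦ by
          have h0 := ClUnit.subsingleton_stalk_pushforward i N x
            ⟨(Set.range i)ᶜ, i.isClosedEmbedding.isClosed_range.isOpen_compl⟩ hx
            (le_bot_iff.mp fun z hz ↦ hz ⟨z, rfl⟩)
          exact @AddCommGrpCat.isZero_of_subsingleton _ h0
      refine ⟨fun {D} ↦ ⟨fun {c} _ ↦ ⟨?_⟩⟩⟩
      exact { desc := fun _ ↦ 0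
              fac := fun _ j ↦ (hz _).eq_of_src _ _
              uniq := fun _ _ _ ↦ (hz _).eq_of_src _ _ }

end Groth.Agent.QCohGen
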