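import Groth.Agent.QCohGen.Closed
import Groth.Agent.Props.SubExt
import Groth.Agent.AssSch.Stalk
import Mathlib.AlgebraicGeometry.Noetherian
import Mathlib.CategoryTheory.Subobject.NoetherianObject
import Mathlib.Data.DFinsupp.WellFounded
import Groth.Agent.PullStalk.Exact

/-!
Noetherian objects of `QCoh X` on a Noetherian scheme.
-/

universe u

open CategoryTheory Limits AlgebraicGeometry Opposite TopologicalSpace

noncomputable section

namespace Groth.Agent.QCohGen.Noeth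

open Groth.Agent.QCoh Groth.Agent.PullStalk.Sky Groth.Agent.Props.SubMod
  Groth.Agent.Props.SubSheaf Groth.Agent.Props.SubExt

variable {X : Scheme.{u}}

/-- A morphism on sections, as a linear map. -/
def appLin {M N : X.Modules} (f : M ⟶ N) (U : X.Opens) : Γ(M, U) →ₗ[Γ(X, U)] Γ(N, U) where
  toFun := f.app U
  map_add' := map_add _
  map_smul' r a := Scheme.Modules.Hom.app_smul f r a

/-- A morphism out of a quasi-coherent module vanishing on an affine cover vanishes. -/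
lemma eq_zero_of_cover {A C : X.Modules} [A.IsQuasicoherent] (ψ : A ⟶ C)
    (h : ∀ x : X, ∃ W : X.affineOpens, x ∈ W.1 ∧ ∀ a, ψ.app W.1 a = 0) : ψ = 0 := by
  refine Scheme.Modules.hom_ext _ _ fun V ↦ ?_
  ext s
  refine TopCat.Presheaf.section_ext (⟨C.presheaf, C.isSheaf⟩ : TopCat.Sheaf AddCommGrpCat X)
    V _ _ fun y hy ↦ ?_
  refine Eq.trans ?_ (map_zero (C.presheaf.germ V y hy).hom).symm
  obtain ⟨W, hyW, hW⟩ := h y
  obtain ⟨g, t, hg, hgt⟩ := AssSch.Stalk.exists_germ_smul_eq A W.2 y hyW (germM A V y hy s)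
  have hu := (AssSch.Stalk.isUnit_germ_iff W.2 y hyW g).mpr hg
  refine hu.smul_eq_zero.mp ?_
  change X.presheaf.germ W.1 y hyW g • germM C V y hy (ψ.app V s) = 0
  rw [← Groth.Agent.PullStalk.Exact.stalkLin_germ ψ V y hy s, ← map_smul, hgt,
    Groth.Agent.PullStalk.Exact.stalkLin_germ, hW]
  exact map_zero (C.presheaf.germ W.1 y hyW).hom

/-- Factorisation of monomorphisms detected on an affine cover. -/
lemma exists_factor {M : QCohCat.QCoh X} {A B : QCohCat.QCoh X} (a : A ⟶ M) (b : B ⟶ M)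
    [Mono b] (h : ∀ x : X, ∃ W : X.affineOpens, x ∈ W.1 ∧
      Set.range (a.hom.app W.1) ⊆ Set.range (b.hom.app W.1)) :
    ∃ g : A ⟶ B, g ≫ b = a := by
  haveI : Mono b.hom := inferInstanceAs (Mono ((QCohCat.isQCoh X).ι.map b))
  haveI : A.obj.IsQuasicoherent := A.property
  have hz : a.hom ≫ cokernel.π b.hom = 0 := eq_zero_of_cover _ fun x ↦ by
    obtain ⟨W, hx, hW⟩ := h x
    refine ⟨W, hx, fun t ↦ ?_⟩
    obtain ⟨u, hu⟩ := hW ⟨t, rfl⟩
    rw [Scheme.Modules.Hom.comp_app, ConcreteCategory.comp_apply, ← hu,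
      ← ConcreteCategory.comp_apply, ← Scheme.Modules.Hom.comp_app, cokernel.condition]
    rfl
  exact ⟨ObjectProperty.homMk (Abelian.monoLift b.hom a.hom hz),
    ObjectProperty.hom_ext _ (Abelian.monoLift_comp _ _ _)⟩

/-- The subobject attached to a finitely generated family. -/
def subObjOf {M : QCohCat.QCoh X} (S : StalkSub M.obj) (hS : FTOn S ⊤) : Subobject M :=
  haveI : M.obj.IsQuasicoherent := M.property
  let A : QCohCat.QCoh X := ⟨sub S, isQuasicoherent_sub hS⟩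
  let i : A ⟶ M := ObjectProperty.homMk (incl S)
  haveI : Mono i := (QCohCat.isQCoh X).ι.mono_of_mono_map (inferInstanceAs (Mono (incl S)))
  Subobject.mk i

lemma ftOn_sup {M : X.Modules} [M.IsQuasicoherent] {S S' : StalkSub M} (hS : FTOn S ⊤)
    (hS' : FTOn S' ⊤) : FTOn (fun x ↦ S x ⊔ S' x) ⊤ := by
  classical
  intro x _
  obtain ⟨V, hV, hxV, -⟩ := exists_isAffineOpen_mem_and_subset (X := X) (Opens.mem_top x)
  obtain ⟨T, hT⟩ := exists_genBy hS hV le_top
  obtain ⟨T', hT'⟩ := exists_genBy hS' hV le_top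
  refine ⟨V, hV, hxV, le_top, T ∪ T', fun y hy ↦ ?_⟩
  show S y ⊔ S' y = _
  rw [hT y hy, hT' y hy]
  simp only [spanGerm, Finset.coe_union, Set.image_union, Submodule.span_union]

theorem isCoh_of_isNoetherianObject [IsNoetherian X] (M : QCohCat.QCoh X) [IsNoetherianObject M] :
    Coh.IsCoh M.obj := by
  haveI : M.obj.IsQuasicoherent := M.property
  refine ⟨M.property, ?_⟩
  let 𝒮 : Set (Subobject M) := {T | ∃ S hS, subObjOf (M := M) S hS = T}
  have hne : 𝒮.Nonempty := ⟨_, fun _ ↦ ⊥, fun x hx ↦ by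
    obtain ⟨V, hV, hxV, -⟩ := exists_isAffineOpen_mem_and_subset (X := X) hx
    exact ⟨V, hV, hxV, le_top, ∅, fun y hy ↦ by simp [spanGerm]⟩, rfl⟩
  obtain ⟨T, ⟨S, hS, rfl⟩, hmax⟩ := WellFounded.has_min (r := (· > ·)) wellFounded_gt 𝒮 hne
  haveI := isQuasicoherent_sub hS
  have hsurj : ∀ W : X.affineOpens, Function.Surjective ((incl S).app W.1) := by
    intro W s
    obtain ⟨S', hS', hs⟩ := exists_sub_through_section M.obj W.1 W.2 s
    have hS'' := ftOn_sup hS hS'
    haveI := isQuasicoherent_sub hS''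
    let A : QCohCat.QCoh X := ⟨sub S, isQuasicoherent_sub hS⟩
    let A'' : QCohCat.QCoh X := ⟨sub (fun x ↦ S x ⊔ S' x), isQuasicoherent_sub hS''⟩
    let a : A ⟶ M := ObjectProperty.homMk (incl S)
    let a'' : A'' ⟶ M := ObjectProperty.homMk (incl _)
    haveI : Mono a := (QCohCat.isQCoh X).ι.mono_of_mono_map (inferInstanceAs (Mono (incl S)))
    haveI : Mono a'' := (QCohCat.isQCoh X).ι.mono_of_mono_map (inferInstanceAs (Mono (incl _)))
    have hle : subObjOf S hS ≤ subObjOf _ hS'' := by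
      obtain ⟨g, hg⟩ := exists_factor a a'' fun x ↦ by
        obtain ⟨V, hV, hxV, -⟩ := exists_isAffineOpen_mem_and_subset (X := X) (Opens.mem_top x)
        refine ⟨⟨V, hV⟩, hxV, fun t ht ↦ ?_⟩
        exact (mem_range_incl _ t).mpr fun y hy ↦
          Submodule.mem_sup_left ((mem_range_incl S t).mp ht y hy)
      exact Subobject.mk_le_mk_of_comm g hg
    have heq : subObjOf _ hS'' ≤ subObjOf S hS := by
      by_contra hn
      exact hmax _ ⟨_, hS'', rfl⟩ (lt_of_le_not_ge hle hn)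
    have hmem : s ∈ Set.range ((incl (fun x ↦ S x ⊔ S' x)).app W.1) :=
      (mem_range_incl _ s).mpr fun y hy ↦ Submodule.mem_sup_right ((mem_range_incl S' s).mp hs y hy)
    obtain ⟨t, rfl⟩ := hmem
    refine ⟨(Subobject.ofMkLEMk a'' a heq).hom.app W.1 t, ?_⟩
    exact congr(($(congrArg InducedCategory.Hom.hom (Subobject.ofMkLEMk_comp heq))).app W.1 t)
  haveI := isFiniteType_sub hS
  rw [QCoh.isFiniteType_iff]
  intro W hW
  haveI := QCoh.finite_sections_of_isFiniteType (sub S) hW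
  exact Module.Finite.of_surjective (appLin (incl S) W) (hsurj ⟨W, hW⟩)

theorem isNoetherianObject_of_isCoh [IsNoetherian X] (M : QCohCat.QCoh X) (hM : Coh.IsCoh M.obj) :
    IsNoetherianObject M := by
  haveI : M.obj.IsQuasicoherent := M.property
  haveI := hM.2
  obtain ⟨σ, hσ⟩ := isCompact_univ.elim_finite_subcover
    (fun W : X.affineOpens => ((W : X.Opens) : Set X)) (fun W => (W : X.Opens).isOpen) fun x _ => by
      obtain ⟨W, hW, hx, -⟩ := exists_isAffineOpen_mem_and_subset (X := X) (Opens.mem_top x)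
      exact Set.mem_iUnion.mpr ⟨⟨W, hW⟩, hx⟩
  haveI : ∀ W : σ, WellFoundedGT (Submodule Γ(X, W.1.1) Γ(M.obj, W.1.1)) := fun W ↦ by
    haveI := IsLocallyNoetherian.component_noetherian W.1
    haveI := QCoh.finite_sections_of_isFiniteType M.obj W.1.2
    infer_instance
  haveI : WellFoundedGT (∀ W : σ, Submodule Γ(X, W.1.1) Γ(M.obj, W.1.1)) :=
    ⟨(Pi.wellFoundedLT (α := fun W : σ ↦ (Submodule Γ(X, W.1.1) Γ(M.obj, W.1.1))ᵒᵈ)).wf⟩
  let Φ : Subobject M → ∀ W : σ, Submodule Γ(X, W.1.1) Γ(M.obj, W.1.1) :=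
    fun T W ↦ LinearMap.range (appLin T.arrow.hom W.1.1)
  have hle : ∀ T T', Φ T ≤ Φ T' → T ≤ T' := fun T T' h ↦ by
    obtain ⟨g, hg⟩ := exists_factor T.arrow T'.arrow fun x ↦ by
      obtain ⟨W, hW, hx⟩ := Set.mem_iUnion₂.mp (hσ (Set.mem_univ x))
      exact ⟨W, hx, h ⟨W, hW⟩⟩
    exact Subobject.le_of_comm g hg
  have hmono : Monotone Φ := fun T T' h W ↦ by
    rintro _ ⟨t, rfl⟩
    refine ⟨(Subobject.ofLE T T' h).hom.app W.1.1 t, ?_⟩
    exact congr(($(congrArg InducedCategory.Hom.hom (Subobject.ofLE_arrow h))).app W.1.1 t)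
  have hstrict : StrictMono Φ := fun T T' h ↦
    lt_of_le_of_ne (hmono h.le) fun e ↦ h.not_ge (hle _ _ e.ge)
  exact ⟨hstrict.wellFoundedGT⟩

end Groth.Agent.QCohGen.Noeth
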