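import Groth.Agent.QCohGen.Closed
import Groth.Agent.QCohGen.StalkFun
import Groth.Agent.QCohGen.Noeth
import Groth.Agent.Props.QApproxMain
import Groth.Agent.Props.QFP
import Mathlib.Algebra.Category.Grp.FilteredColimits
import Mathlib.CategoryTheory.Presentable.Finite
import Mathlib.CategoryTheory.Limits.Types.Filtered

/-!
Finitely presentable objects of `QCoh X` on a qcqs scheme.
-/

universe u

open CategoryTheory Limits AlgebraicGeometry Opposite TopologicalSpace

noncomputable section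

namespace Groth.Agent.QCohGen.Compact

open Groth.Agent.QCoh Groth.Agent.PullStalk.Sky Groth.Agent.Props.SubMod
  Groth.Agent.Props.SubSheaf Groth.Agent.Props.SubExt

variable {X : Scheme.{u}} {J : Type u} [SmallCategory J] [IsFiltered J] {D : J ⥤ X.Modules}
  {c : Cocone D}

/-- Finitely many monotone properties of a stage hold at a common stage. -/
lemma exists_common {ι : Type*} (s : Finset ι) {j : J} (P : ι → ∀ {k}, (j ⟶ k) → Prop)
    (hmono : ∀ i {k l} (f : j ⟶ k) (g : k ⟶ l), P i f → P i (f ≫ g))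
    (h : ∀ i ∈ s, ∃ (k : J) (f : j ⟶ k), P i f) :
    ∃ (k : J) (f : j ⟶ k), ∀ i ∈ s, P i f := by
  classical
  induction s using Finset.induction with
  | empty => exact ⟨j, 𝟙 j, by simp⟩
  | insert a t _ ih =>
    obtain ⟨k, f, hf⟩ := ih fun i hi ↦ h i (Finset.mem_insert_of_mem hi)
    obtain ⟨k', f', hf'⟩ := h a (Finset.mem_insert_self a t)
    obtain ⟨l, g, g', hgg⟩ := IsFiltered.span f f'
    refine ⟨l, f ≫ g, fun i hi ↦ ?_⟩
    rcases Finset.mem_insert.mp hi with rfl | hi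
    · rw [hgg]; exact hmono _ _ _ hf'
    · exact hmono _ _ _ (hf i hi)

variable (hc : IsColimit c)

include hc in
lemma exists_germ_rep {U : X.Opens} (y : X) (hy : y ∈ U) (s : Γ(c.pt, U)) :
    ∃ (j : J) (V : X.Opens) (hVU : V ≤ U) (t : Γ(D.obj j, V)),
      y ∈ V ∧ (c.ι.app j).app V t = res c.pt hVU s := by
  obtain ⟨j, b, hb⟩ := Concrete.isColimit_exists_rep _ (isColimitOfPreserves (stalkAb X y) hc)
    (germM c.pt U y hy s)
  obtain ⟨W, hyW, m, rfl⟩ := exists_germM_eq (D.obj j) y b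
  have hb' : germM c.pt W y hyW ((c.ι.app j).app W m) = germM c.pt U y hy s :=
    (TopCat.Presheaf.stalkFunctor_map_germ_apply W y hyW (c.ι.app j).mapPresheaf m).symm.trans hb
  obtain ⟨V, hyV, iW, iU, e⟩ := c.pt.presheaf.germ_eq y hyW hy _ _ hb'
  refine ⟨j, V, iU.le, res (D.obj j) iW.le m, hyV, ?_⟩
  rw [app_res]
  exact e

include hc in
/-- A section killed in the colimit is killed at a later stage, over a compact open. -/
lemma exists_stage_zero {U : X.Opens} (hU : IsCompact (U : Set X)) {j : J} (s : Γ(D.obj j, U))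
    (h : (c.ι.app j).app U s = 0) : ∃ (k : J) (f : j ⟶ k), (D.map f).app U s = 0 := by
  have key : ∀ y : U, ∃ (k : J) (f : j ⟶ k) (V : X.Opens) (hVU : V ≤ U),
      y.1 ∈ V ∧ res (D.obj k) hVU ((D.map f).app U s) = 0 := by
    rintro ⟨y, hy⟩
    have h0 : (stalkAb X y).map (c.ι.app j) (germM (D.obj j) U y hy s) =
        (stalkAb X y).map (c.ι.app j) 0 :=
      ((TopCat.Presheaf.stalkFunctor_map_germ_apply U y hy (c.ι.app j).mapPresheaf s).trans
        ((congrArg (germM c.pt U y hy) h).trans (map_zero (c.pt.presheaf.germ U y hy).hom))).trans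
        (map_zero ((stalkAb X y).map (c.ι.app j)).hom).symm
    obtain ⟨k, f, g, e⟩ := Concrete.isColimit_exists_of_rep_eq.{u} (D ⋙ stalkAb X y)
      (isColimitOfPreserves (stalkAb X y) hc) _ _ h0
    have e' : germM (D.obj k) U y hy ((D.map f).app U s) = 0 :=
      (TopCat.Presheaf.stalkFunctor_map_germ_apply U y hy (D.map f).mapPresheaf s).symm.trans
        (e.trans (map_zero ((D ⋙ stalkAb X y).map g).hom))
    obtain ⟨V, hyV, i₁, _, e2⟩ := (D.obj k).presheaf.germ_eq y hy hy _ 0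
      (e'.trans (map_zero ((D.obj k).presheaf.germ U y hy).hom).symm)
    exact ⟨k, f, V, i₁.le, hyV, e2.trans (map_zero _)⟩
  choose k f V hVU hyV hz using key
  obtain ⟨σ, hσ⟩ := hU.elim_finite_subcover (fun y : U ↦ (V y : Set X)) (fun y ↦ (V y).isOpen)
    fun y hy ↦ Set.mem_iUnion.mpr ⟨⟨y, hy⟩, hyV _⟩
  obtain ⟨l, g, hg⟩ := exists_common σ
    (fun y {l} (g : j ⟶ l) ↦ res (D.obj l) (hVU y) ((D.map g).app U s) = 0)
    (fun y {a b} p q hp ↦ by
      rw [D.map_comp, Scheme.Modules.Hom.comp_app, ConcreteCategory.comp_apply, ← app_res, hp,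
        map_zero])
    (fun y _ ↦ ⟨k y, f y, hz y⟩)
  refine ⟨l, g, eq_of_locally_eq (D.obj l) (U := fun y : σ ↦ V y.1) (fun y ↦ hVU y.1)
    (fun x hx ↦ ?_) _ _ fun y ↦ (hg y.1 y.2).trans (map_zero _).symm⟩
  obtain ⟨y, hy, hxy⟩ := Set.mem_iUnion₂.mp (hσ hx)
  exact Opens.mem_iSup.mpr ⟨⟨y, hy⟩, hxy⟩

include hc in
/-- A section of the colimit over an affine open comes from a stage. -/
lemma exists_stage [QuasiSeparatedSpace X] {U : X.Opens} (hU : IsAffineOpen U) (s : Γ(c.pt, U)) :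
    ∃ (j : J) (t : Γ(D.obj j, U)), (c.ι.app j).app U t = s := by
  classical
  have key : ∀ y : U, ∃ (j : J) (V : X.affineOpens) (hVU : V.1 ≤ U) (t : Γ(D.obj j, V.1)),
      y.1 ∈ V.1 ∧ (c.ι.app j).app V.1 t = res c.pt hVU s := by
    rintro ⟨y, hy⟩
    obtain ⟨j, V, hVU, t, hyV, e⟩ := exists_germ_rep hc y hy s
    obtain ⟨_, ⟨(V' : X.Opens), (hV' : IsAffineOpen V'), rfl⟩, hyV', hle⟩ :=
      X.isBasis_affineOpens.exists_subset_of_mem_open hyV V.isOpen
    have hle' : V' ≤ V := hle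
    refine ⟨j, ⟨V', hV'⟩, hle'.trans hVU, res (D.obj j) hle' t, hyV', ?_⟩
    rw [app_res, e]
    exact res_res c.pt hVU hle' s
  choose j V hVU t hyV ht using key
  obtain ⟨σ, hσ⟩ := hU.isCompact.elim_finite_subcover (fun y : U ↦ ((V y).1 : Set X))
    (fun y ↦ (V y).1.isOpen) fun y hy ↦ Set.mem_iUnion.mpr ⟨⟨y, hy⟩, hyV _⟩
  obtain ⟨j₀, hj₀⟩ := IsFiltered.sup_objs_exists (σ.image j)
  have a : ∀ y : σ, j y.1 ⟶ j₀ := fun y ↦ (hj₀ (Finset.mem_image_of_mem j y.2)).some
  let t₀ : ∀ y : σ, Γ(D.obj j₀, (V y.1).1) := fun y ↦ (D.map (a y)).app _ (t y.1)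
  have ht₀ : ∀ y : σ, (c.ι.app j₀).app _ (t₀ y) = res c.pt (hVU y.1) s := fun y ↦ by
    rw [← ht y.1, ← c.w (a y)]
    rfl
  let d : ∀ p : σ × σ, Γ(D.obj j₀, (V p.1.1).1 ⊓ (V p.2.1).1) := fun p ↦
    res (D.obj j₀) inf_le_left (t₀ p.1) - res (D.obj j₀) inf_le_right (t₀ p.2)
  obtain ⟨k, f, hf⟩ := exists_common Finset.univ
    (fun p {l} (g : j₀ ⟶ l) ↦ (D.map g).app _ (d p) = 0)
    (fun p {a b} g g' hg ↦ by
      rw [D.map_comp, Scheme.Modules.Hom.comp_app, ConcreteCategory.comp_apply, hg, map_zero])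
    (fun p _ ↦ exists_stage_zero hc
      ((V p.1.1).2.isCompact.inter_of_isOpen (V p.2.1).2.isCompact (V p.1.1).1.isOpen
        (V p.2.1).1.isOpen) (d p)
      (by
        rw [map_sub, app_res, app_res, ht₀, ht₀]
        exact sub_eq_zero.mpr ((res_res c.pt _ _ s).trans (res_res c.pt _ _ s).symm)))
  have hcov : U ≤ ⨆ y : σ, (V y.1).1 := fun x hx ↦ by
    obtain ⟨y, hy, hxy⟩ := Set.mem_iUnion₂.mp (hσ hx)
    exact Opens.mem_iSup.mpr ⟨⟨y, hy⟩, hxy⟩
  obtain ⟨t', ht'⟩ := exists_glue (D.obj k) (fun y : σ ↦ hVU y.1) hcov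
    (fun y ↦ (D.map f).app _ (t₀ y)) fun y y' ↦ by
      have := hf (y, y') (Finset.mem_univ _)
      rw [map_sub, app_res, app_res, sub_eq_zero] at this
      exact this
  refine ⟨k, t', eq_of_locally_eq c.pt (fun y : σ ↦ hVU y.1) hcov _ _ fun y ↦ ?_⟩
  rw [← app_res, ht', ← ht₀ y, ← c.w f]
  rfl

include hc in
/-- A morphism from a finite type module killed in the colimit is killed at a later stage. -/
lemma exists_hom_zero [CompactSpace X] (F : X.Modules) [F.IsQuasicoherent]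
    (hF : SheafOfModules.IsFiniteType.{u} F) {j : J} (ψ : F ⟶ D.obj j) (h : ψ ≫ c.ι.app j = 0) :
    ∃ (k : J) (f : j ⟶ k), ψ ≫ D.map f = 0 := by
  classical
  obtain ⟨σ, hσ⟩ := Props.QApproxMain.exists_affine_finite_cover X
  have hgen : ∀ W : X.affineOpens, ∃ T : Finset Γ(F, W.1), Submodule.span Γ(X, W.1) (T : Set Γ(F, W.1)) = ⊤ :=
    fun W ↦ (QCoh.finite_sections_of_isFiniteType F W.2).fg_top
  choose T hT using hgen
  obtain ⟨k, f, hf⟩ := exists_common (σ.sigma T)
    (fun p {l} (g : j ⟶ l) ↦ (ψ ≫ D.map g).app p.1.1 p.2 = 0)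
    (fun p {a b} g g' hg ↦ by
      rw [D.map_comp, ← Category.assoc, Scheme.Modules.Hom.comp_app, ConcreteCategory.comp_apply,
        hg, map_zero])
    (fun p _ ↦ by
      obtain ⟨k, f, hf⟩ := exists_stage_zero hc p.1.2.isCompact (ψ.app p.1.1 p.2) (by
        rw [← ConcreteCategory.comp_apply, ← Scheme.Modules.Hom.comp_app, h]
        rfl)
      exact ⟨k, f, hf⟩)
  refine ⟨k, f, Noeth.eq_zero_of_cover _ fun x ↦ ?_⟩
  obtain ⟨W, hW, hx⟩ := hσ x
  refine ⟨W, hx, fun a ↦ ?_⟩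
  have ha : a ∈ Submodule.span Γ(X, W.1) (T W : Set Γ(F, W.1)) := (hT W).ge trivial
  induction ha using Submodule.span_induction with
  | mem z hz => exact hf ⟨W, z⟩ (Finset.mem_sigma.mpr ⟨hW, hz⟩)
  | zero => exact map_zero _
  | add a b _ _ ha hb => rw [map_add, ha, hb, add_zero]
  | smul r a _ ha => rw [Scheme.Modules.Hom.app_smul, ha, smul_zero]

lemma exists_ftOn_containing [CompactSpace X] [QuasiSeparatedSpace X] (M : X.Modules)
    [M.IsQuasicoherent] {ι : Type u} (s : Finset ι) (W : ι → X.affineOpens)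
    (m : ∀ i, Γ(M, (W i).1)) :
    ∃ S : StalkSub M, FTOn S ⊤ ∧ ∀ i ∈ s, m i ∈ Set.range ((incl S).app (W i).1) := by
  classical
  induction s using Finset.induction with
  | empty =>
    exact ⟨fun _ ↦ ⊥, fun x hx ↦ by
      obtain ⟨V, hV, hxV, -⟩ := exists_isAffineOpen_mem_and_subset (X := X) hx
      exact ⟨V, hV, hxV, le_top, ∅, fun y hy ↦ by simp [spanGerm]⟩, by simp⟩
  | insert a t _ ih =>
    obtain ⟨S, hS, ht⟩ := ih
    obtain ⟨S', hS', ha⟩ := exists_sub_through_section M (W a).1 (W a).2 (m a)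
    refine ⟨fun x ↦ S x ⊔ S' x, Noeth.ftOn_sup hS hS', fun i hi ↦
      (mem_range_incl _ _).mpr fun y hy ↦ ?_⟩
    rcases Finset.mem_insert.mp hi with rfl | hi
    · exact Submodule.mem_sup_right ((mem_range_incl S' _).mp ha y hy)
    · exact Submodule.mem_sup_left ((mem_range_incl S _).mp (ht i hi) y hy)

include hc in
/-- A morphism from a finitely presented module into a filtered colimit factors through a stage. -/
lemma exists_hom [CompactSpace X] [QuasiSeparatedSpace X] [∀ j, (D.obj j).IsQuasicoherent]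
    [c.pt.IsQuasicoherent] (F : X.Modules) [F.IsQuasicoherent]
    (hF : SheafOfModules.IsFinitePresentation.{u} F) (φ : F ⟶ c.pt) :
    ∃ (j : J) (g : F ⟶ D.obj j), g ≫ c.ι.app j = φ := by
  classical
  have hfp := (Props.QFP.isFP_iff F).mp hF
  haveI hfin : ∀ W : X.affineOpens, Module.Finite Γ(X, W.1) Γ(F, W.1) := fun W ↦ by
    have := hfp W.1 W.2
    infer_instance
  obtain ⟨σ, hσ⟩ := Props.QApproxMain.exists_affine_finite_cover X
  choose T hT using fun W : X.affineOpens ↦ (hfin W).fg_top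
  choose js ts hts using fun p : (W : X.affineOpens) × Γ(F, W.1) ↦
    exists_stage hc p.1.2 (φ.app p.1.1 p.2)
  obtain ⟨j₀, hj₀⟩ := IsFiltered.sup_objs_exists ((σ.sigma T).image js)
  let I := ↥(σ.sigma T)
  have a : ∀ p : I, js p.1 ⟶ j₀ := fun p ↦ (hj₀ (Finset.mem_image_of_mem js p.2)).some
  let ι₀ : D.obj j₀ ⟶ c.pt := c.ι.app j₀
  let B := F ⊞ D.obj j₀
  haveI : B.IsQuasicoherent := isQuasicoherent_biprod _ _
  let δ : B ⟶ c.pt := biprod.desc φ (-ι₀)
  haveI : (kernel δ).IsQuasicoherent := QCoh.isQuasicoherent_kernel δ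
  let K₀ := ShortComplex.mk (kernel.ι δ) δ (kernel.condition δ)
  have hK₀ : K₀.Exact := K₀.exact_of_f_is_kernel (kernelIsKernel δ)
  haveI : Mono K₀.f := inferInstanceAs (Mono (kernel.ι δ))
  have hlift : ∀ p : I, ∃ z : Γ(kernel δ, p.1.1.1),
      (kernel.ι δ ≫ biprod.fst).app _ z = p.1.2 := fun p ↦ by
    obtain ⟨z, hz⟩ := exists_app_eq_of_app_eq_zero K₀ hK₀ p.1.1.1
      ((biprod.inl : F ⟶ B).app _ p.1.2 +
        (biprod.inr : D.obj j₀ ⟶ B).app _ ((D.map (a p)).app _ (ts p.1))) (by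
      rw [map_add]
      change ((biprod.inl : F ⟶ B) ≫ δ).app _ p.1.2 +
        ((biprod.inr : D.obj j₀ ⟶ B) ≫ δ).app _ _ = 0
      rw [biprod.inl_desc, biprod.inr_desc]
      change φ.app _ p.1.2 + -((D.map (a p) ≫ ι₀).app _ (ts p.1)) = 0
      rw [show D.map (a p) ≫ ι₀ = c.ι.app (js p.1) from c.w (a p)]
      exact add_neg_eq_zero.mpr (hts p.1).symm)
    refine ⟨z, ?_⟩
    rw [Scheme.Modules.Hom.comp_app, ConcreteCategory.comp_apply]
    change (biprod.fst : B ⟶ F).app _ (K₀.f.app _ z) = _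
    rw [hz, map_add, ← ConcreteCategory.comp_apply, ← ConcreteCategory.comp_apply,
      ← Scheme.Modules.Hom.comp_app, ← Scheme.Modules.Hom.comp_app, biprod.inl_fst, biprod.inr_fst]
    exact (add_eq_left (a := p.1.2)).mpr rfl
  choose z hz using hlift
  obtain ⟨S, hS, hmem⟩ := exists_ftOn_containing (kernel δ) (Finset.univ : Finset I)
    (fun p ↦ p.1.1) z
  haveI := isQuasicoherent_sub hS
  let q : sub S ⟶ F := incl S ≫ kernel.ι δ ≫ biprod.fst
  have hq : ∀ x : X, ∃ W : X.Opens, IsAffineOpen W ∧ x ∈ W ∧ Function.Surjective (q.app W) :=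
    fun x ↦ by
      obtain ⟨W, hW, hx⟩ := hσ x
      refine ⟨W.1, W.2, hx, fun s ↦ ?_⟩
      have hs : s ∈ LinearMap.range (Noeth.appLin q W.1) := by
        refine (Submodule.span_le.mpr (fun b hb ↦ ?_) : Submodule.span Γ(X, W.1) (T W : Set Γ(F, W.1))
          ≤ _) ((hT W).ge trivial)
        let p : I := ⟨⟨W, b⟩, Finset.mem_sigma.mpr ⟨hW, hb⟩⟩
        obtain ⟨w, hw⟩ := hmem p (Finset.mem_univ p)
        exact ⟨w, (congrArg ((kernel.ι δ ≫ biprod.fst).app _) hw).trans (hz p)⟩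
      exact hs
  haveI : Epi q := Props.QApproxMain.epi_of_cover q hq
  haveI : (kernel q).IsQuasicoherent := QCoh.isQuasicoherent_kernel q
  have hkft : SheafOfModules.IsFiniteType.{u} (kernel q) := by
    refine (@QCoh.isFiniteType_iff X (kernel q) (QCoh.isQuasicoherent_kernel q)).mpr fun V hV ↦ ?_
    have := hfp V hV
    haveI := isFiniteType_sub hS
    haveI := QCoh.finite_sections_of_isFiniteType (sub S) hV
    let L := ShortComplex.mk (kernel.ι q) q (kernel.condition q)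
    haveI : Mono L.f := inferInstanceAs (Mono (kernel.ι q))
    have hL : L.Exact := L.exact_of_f_is_kernel (kernelIsKernel q)
    have hr : LinearMap.range (Noeth.appLin (kernel.ι q) V) = LinearMap.ker (Noeth.appLin q V) := by
      refine le_antisymm ?_ fun b hb ↦ exists_app_eq_of_app_eq_zero L hL V b hb
      rintro _ ⟨b, rfl⟩
      exact app_app_eq_zero L V b
    have hfg := Module.FinitePresentation.fg_ker (Noeth.appLin q V) (app_surjective_of_epi q hV)
    rw [← hr] at hfg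
    haveI : Module.Finite Γ(X, V) (LinearMap.range (Noeth.appLin (kernel.ι q) V)) :=
      Module.Finite.iff_fg.mpr hfg
    exact Module.Finite.equiv
      (LinearEquiv.ofInjective (Noeth.appLin (kernel.ι q) V) (app_injective_of_mono _ V)).symm
  let r : sub S ⟶ D.obj j₀ := incl S ≫ kernel.ι δ ≫ biprod.snd
  have hrq : r ≫ ι₀ = q ≫ φ := by
    have e : kernel.ι δ ≫ biprod.fst ≫ φ = kernel.ι δ ≫ biprod.snd ≫ ι₀ := by
      have h0 := kernel.condition δ
      simp only [δ, biprod.desc_eq, Preadditive.comp_add, Preadditive.comp_neg,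
        Category.assoc] at h0
      exact (sub_eq_zero.mp ((sub_eq_add_neg _ _).trans h0))
    simp only [r, q, Category.assoc, e]
  obtain ⟨k, f, hf⟩ := exists_hom_zero hc (kernel q) hkft (kernel.ι q ≫ r) (by
    rw [Category.assoc, hrq, ← Category.assoc, kernel.condition, zero_comp])
  refine ⟨k, Abelian.epiDesc q (r ≫ D.map f) (by rw [← Category.assoc, hf]), ?_⟩
  rw [← cancel_epi q, ← Category.assoc, Abelian.comp_epiDesc, Category.assoc, c.w, hrq]

end Groth.Agent.QCohGen.Compact
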