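import Groth.Agent.QCohGen.Sub
import Mathlib.CategoryTheory.Adjunction.AdjointFunctorTheorems
import Mathlib.CategoryTheory.Abelian.Subobject
import Mathlib.CategoryTheory.Abelian.GrothendieckCategory.EnoughInjectives

/-!
`QCoh X` is a Grothendieck abelian category, and colimit-preserving functors out of it are left
adjoints.
-/

universe u v' u'

open CategoryTheory Limits AlgebraicGeometry Opposite TopologicalSpace

noncomputable section

namespace Groth.Agent.QCohGen

variable (X : Scheme.{u})

/-- Codes for a small set of quasi-coherent modules. -/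
abbrev Code : Type u :=
  Σ U₀ : X.affineOpens, Σ R : Rel U₀, Shrink.{u} (Subobject (amb U₀ R))

/-- The module of a code. -/
def codeObj (c : Code X) : X.Modules :=
  (((equivShrink (Subobject (amb c.1 c.2.1))).symm c.2.2 : Subobject (amb c.1 c.2.1)) : X.Modules)

/-- The codes of quasi-coherent modules. -/
abbrev QCode : Type u := {c : Code X // QCohCat.isQCoh X (codeObj X c)}

/-- The generators of `QCoh X`. -/
def gen (c : QCode X) : QCohCat.QCoh X := ⟨codeObj X c.1, c.2⟩

lemma isSeparating_gen : ObjectProperty.IsSeparating (ObjectProperty.ofObj (gen X)) := by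
  intro M N f g h
  apply ObjectProperty.hom_ext
  haveI : M.obj.IsQuasicoherent := M.property
  refine Scheme.Modules.hom_ext _ _ fun V ↦ ?_
  ext s
  refine TopCat.Presheaf.section_ext (⟨N.obj.presheaf, N.obj.isSheaf⟩ : TopCat.Sheaf AddCommGrpCat X)
    V _ _ fun y hy ↦ ?_
  obtain ⟨_, ⟨(U : X.Opens), (hU : IsAffineOpen U), rfl⟩, hyU, hUV⟩ :=
    X.isBasis_affineOpens.exists_subset_of_mem_open hy V.isOpen
  have hUV' : U ≤ V := hUV
  have key : ∀ t : Γ(M.obj, U), f.hom.app U t = g.hom.app U t := by
    intro t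
    obtain ⟨G, a, _, hG, hb, ⟨t', ht'⟩⟩ := exists_bdd_sub M.obj ⟨U, hU⟩ t
    obtain ⟨R, T, ⟨e⟩⟩ := exists_subobject_iso_of_bdd G hb
    let c : Code X := ⟨⟨U, hU⟩, R, equivShrink _ T⟩
    have hc : codeObj X c = (T : X.Modules) := by
      simp [codeObj, c]
    have hq : QCohCat.isQCoh X (codeObj X c) := by
      rw [hc]
      exact ObjectProperty.prop_of_iso _ e.symm hG
    have := h (gen X ⟨c, hq⟩) (ObjectProperty.ofObj_apply (gen X) ⟨c, hq⟩)
      (ObjectProperty.homMk ((eqToIso hc).hom ≫ e.hom ≫ a : (gen X ⟨c, hq⟩).obj ⟶ M.obj))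
    have h0 : ((eqToIso hc).hom ≫ e.hom ≫ a) ≫ f.hom = ((eqToIso hc).hom ≫ e.hom ≫ a) ≫ g.hom :=
      congrArg (fun φ ↦ φ.hom) this
    have h' : a ≫ f.hom = a ≫ g.hom := by
      simpa only [Category.assoc, cancel_epi] using h0
    have h'' := congr($(h').app U t')
    simp only [Scheme.Modules.Hom.comp_app, ConcreteCategory.comp_apply] at h''
    rw [← ht']
    exact h''
  have hf := NatTrans.naturality_apply f.hom.mapPresheaf (homOfLE hUV').op s
  have hg := NatTrans.naturality_apply g.hom.mapPresheaf (homOfLE hUV').op s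
  refine ((N.obj.presheaf.germ_res_apply (homOfLE hUV') y hyU (f.hom.app V s)).symm).trans
    (Eq.trans ?_ (N.obj.presheaf.germ_res_apply (homOfLE hUV') y hyU (g.hom.app V s)))
  exact congrArg (N.obj.presheaf.germ U y hyU) (hf.symm.trans ((key _).trans hg))

instance instHasSeparator : HasSeparator (QCohCat.QCoh X) :=
  ⟨⟨∐ gen X, (isSeparator_sigma _).2 (isSeparating_gen X)⟩⟩

instance instGrothendieck : IsGrothendieckAbelian.{u} (QCohCat.QCoh X) where
  hasFilteredColimitsOfSize := ⟨fun _ _ _ => inferInstance⟩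

instance instEnoughInjectives : EnoughInjectives (QCohCat.QCoh X) :=
  IsGrothendieckAbelian.enoughInjectives.{u}

/-- Colimit preserving functors out of `QCoh X` are left adjoints. -/
theorem isLeftAdjoint_of_preservesColimits {D : Type u'} [Category.{u} D]
    (F : QCohCat.QCoh X ⥤ D) [PreservesColimitsOfSize.{u, u} F] : F.IsLeftAdjoint :=
  isLeftAdjoint_of_preservesColimits_of_isSeparating (isSeparating_gen X) F

instance instPreservesColimitsι : PreservesColimitsOfSize.{u, u} (QCohCat.isQCoh X).ι where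
  preservesColimitsOfShape {J} _ := instPreservesColimits X J

/-- The coherator exists. -/
theorem isLeftAdjoint_ι : (QCohCat.isQCoh X).ι.IsLeftAdjoint :=
  isLeftAdjoint_of_preservesColimits X _

end Groth.Agent.QCohGen
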