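import Groth.Agent.QCohGen.Compact

/-!
Finitely presentable objects of `QCoh X` are the finitely presented modules.
-/

universe u

open CategoryTheory Limits AlgebraicGeometry Opposite TopologicalSpace

noncomputable section

namespace Groth.Agent.QCohGen.Presentable

open Groth.Agent.QCoh Groth.Agent.PullStalk.Sky Groth.Agent.Props.SubMod
  Groth.Agent.Props.SubSheaf Groth.Agent.Props.SubExt Groth.Agent.PullStalk.Exact

variable {X : Scheme.{u}} [CompactSpace X] [QuasiSeparatedSpace X]

theorem isFinitelyPresentable_of_isFP (F : QCohCat.QCoh X)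
    (hF : SheafOfModules.IsFinitePresentation.{u} F.obj) : IsFinitelyPresentable.{u} F := by
  rw [isFinitelyPresentable_iff_preservesFilteredColimits]
  refine ⟨fun J _ _ ↦ ⟨fun {D} ↦ ⟨fun {c} hc ↦ ⟨?_⟩⟩⟩⟩
  haveI : F.obj.IsQuasicoherent := F.property
  have hc' := isColimitOfPreserves (QCohCat.isQCoh X).ι hc
  haveI : ∀ j, ((D ⋙ (QCohCat.isQCoh X).ι).obj j).IsQuasicoherent := fun j ↦ (D.obj j).property
  haveI : ((QCohCat.isQCoh X).ι.mapCocone c).pt.IsQuasicoherent := c.pt.property
  refine Types.FilteredColimit.isColimitOf _ _ (fun φ ↦ ?_) fun i j ψ ψ' h ↦ ?_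
  · obtain ⟨j, g, hg⟩ := Compact.exists_hom hc' F.obj hF (InducedCategory.Hom.hom φ)
    exact ⟨j, ObjectProperty.homMk g, ObjectProperty.hom_ext _ hg.symm⟩
  · obtain ⟨k, f, g, -⟩ := IsFilteredOrEmpty.cocone_objs i j
    have hFT : SheafOfModules.IsFiniteType.{u} F.obj :=
      (QCoh.isFiniteType_iff F.obj).mpr fun W hW ↦ by
        have := (Props.QFP.isFP_iff F.obj).mp hF W hW
        infer_instance
    obtain ⟨l, a, ha⟩ := Compact.exists_hom_zero hc' F.obj hFT (j := k)
      (InducedCategory.Hom.hom ψ ≫ (D.map f).hom - InducedCategory.Hom.hom ψ' ≫ (D.map g).hom) (by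
        rw [Preadditive.sub_comp, sub_eq_zero, Category.assoc, Category.assoc]
        have h' : (ψ ≫ c.ι.app i).hom = (ψ' ≫ c.ι.app j).hom := congrArg InducedCategory.Hom.hom h
        rw [← c.w f, ← c.w g] at h'
        exact h')
    refine ⟨l, f ≫ a, g ≫ a, ObjectProperty.hom_ext _ ?_⟩
    rw [Preadditive.sub_comp, sub_eq_zero, Category.assoc, Category.assoc] at ha
    have e₁ : (D.map (f ≫ a)).hom = (D.map f).hom ≫ (D.map a).hom :=
      congrArg InducedCategory.Hom.hom (D.map_comp f a)
    have e₂ : (D.map (g ≫ a)).hom = (D.map g).hom ≫ (D.map a).hom :=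
      congrArg InducedCategory.Hom.hom (D.map_comp g a)
    exact ((congrArg (InducedCategory.Hom.hom ψ ≫ ·) e₁).trans ha).trans
      (congrArg (InducedCategory.Hom.hom ψ' ≫ ·) e₂).symm

/-- Finite type families. -/
abbrev Index (F : QCohCat.QCoh X) : Type u := {S : StalkSub F.obj // FTOn S ⊤}

variable (F : QCohCat.QCoh X)

/-- The inclusion of one finite type submodule into a larger one. -/
def subMap {S S' : Index F} (h : S ≤ S') : sub S.1 ⟶ sub S'.1 :=
  kernel.lift _ (incl S.1) (by
    apply Limits.Pi.hom_ext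
    intro y
    rw [Category.assoc, zero_comp, toQuot, Pi.lift_π]
    refine Scheme.Modules.hom_ext _ _ fun V ↦ ?_
    ext a
    change (toSky (S'.1 y).mkQ).app V ((incl S.1).app V a) = 0
    funext hy
    exact (toSky_app _ V _ hy).trans ((Submodule.Quotient.mk_eq_zero _).mpr
      (h y ((mem_range_incl S.1 _).mp ⟨a, rfl⟩ y hy.down))))

lemma subMap_incl {S S' : Index F} (h : S ≤ S') : subMap F h ≫ incl S'.1 = incl S.1 :=
  kernel.lift_ι _ _ _

/-- The diagram of finite type submodules. -/
def diag : Index F ⥤ QCohCat.QCoh X where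
  obj S := ⟨sub S.1, @isQuasicoherent_sub X F.obj S.1 F.property S.2⟩
  map {S S'} h := ObjectProperty.homMk (subMap F (leOfHom h))
  map_id S := ObjectProperty.hom_ext _ ((cancel_mono (incl S.1)).mp
    ((subMap_incl F (le_refl S)).trans (Category.id_comp _).symm))
  map_comp {S S' S''} h h' := ObjectProperty.hom_ext _ ((cancel_mono (incl S''.1)).mp (by
    change subMap F (leOfHom (h ≫ h')) ≫ _ = (subMap F (leOfHom h) ≫ subMap F (leOfHom h')) ≫ _
    rw [Category.assoc, subMap_incl, subMap_incl, subMap_incl]))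

/-- The cocone to the module. -/
def toF : Cocone (diag F) where
  pt := F
  ι := { app := fun S ↦ ObjectProperty.homMk (incl S.1)
         naturality := fun S S' h ↦ ObjectProperty.hom_ext _
          ((subMap_incl F (leOfHom h)).trans (Category.comp_id _).symm) }

lemma isDirected : IsDirected (Index F) (· ≤ ·) where
  directed S S' := ⟨⟨fun x ↦ S.1 x ⊔ S'.1 x, @Noeth.ftOn_sup X F.obj F.property _ _ S.2 S'.2⟩,
    fun x ↦ le_sup_left, fun x ↦ le_sup_right⟩

lemma nonempty_index : Nonempty (Index F) :=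
  ⟨⟨fun _ ↦ ⊥, fun x hx ↦ by
    obtain ⟨V, hV, hxV, -⟩ := exists_isAffineOpen_mem_and_subset (X := X) hx
    exact ⟨V, hV, hxV, le_top, ∅, fun y hy ↦ by simp [spanGerm]⟩⟩⟩

/-- A quasi-coherent module is the colimit of its finite type submodules. -/
theorem nonempty_isColimit_toF : Nonempty (IsColimit (toF F)) := by
  haveI := isDirected F
  haveI := nonempty_index F
  haveI : F.obj.IsQuasicoherent := F.property
  let hl := colimit.isColimit (diag F)
  have hl' := isColimitOfPreserves (QCohCat.isQCoh X).ι hl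
  let m := hl.desc (toF F)
  have hfac : ∀ S : Index F, (colimit.ι (diag F) S).hom ≫ m.hom = incl S.1 := fun S ↦
    congrArg InducedCategory.Hom.hom (hl.fac (toF F) S)
  have hb : ∀ y : X, Function.Bijective ((stalkAb X y).map m.hom) := fun y ↦ by
    have hh := fun (S : Index F) (t : (stalkAb X y).obj (sub S.1)) ↦
      (ConcreteCategory.congr_hom ((stalkAb X y).map_comp (colimit.ι (diag F) S).hom m.hom) t).symm.trans
        (ConcreteCategory.congr_hom (congrArg (stalkAb X y).map (hfac S)) t)
    constructor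
    · rw [injective_iff_map_eq_zero]
      intro a ha
      obtain ⟨S, t, rfl⟩ :=
        Concrete.isColimit_exists_rep _ (isColimitOfPreserves (stalkAb X y) hl') a
      obtain ⟨W, hyW, w, rfl⟩ := exists_germM_eq (sub S.1) y t
      have h0 : germM F.obj W y hyW ((incl S.1).app W w) = 0 :=
        (TopCat.Presheaf.stalkFunctor_map_germ_apply W y hyW (incl S.1).mapPresheaf w).symm.trans
          ((hh S _).symm.trans ha)
      obtain ⟨V, hyV, i₁, _, e⟩ := F.obj.presheaf.germ_eq y hyW hyW _ 0
        (h0.trans (map_zero (F.obj.presheaf.germ W y hyW).hom).symm)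
      have hz : res (sub S.1) i₁.le w = 0 := incl_injective S.1 V (by
        rw [app_res, map_zero]
        exact e.trans (map_zero _))
      have : germM (sub S.1) W y hyW w = 0 :=
        ((sub S.1).presheaf.germ_res_apply i₁ y hyV w).symm.trans
          ((congrArg ((sub S.1).presheaf.germ V y hyV) hz).trans (map_zero _))
      rw [this]
      exact map_zero _
    · intro (b : F.obj.presheaf.stalk y)
      obtain ⟨W, hW, hyW, -⟩ := exists_isAffineOpen_mem_and_subset (X := X) (Opens.mem_top y)
      obtain ⟨g, s, hg, hgs⟩ := AssSch.Stalk.exists_germ_smul_eq F.obj hW y hyW b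
      obtain ⟨S, hS, w, hw⟩ := exists_sub_through_section F.obj W hW s
      obtain ⟨u, hu⟩ := (AssSch.Stalk.isUnit_germ_iff hW y hyW g).mpr hg
      let S₀ : Index F := ⟨S, hS⟩
      refine ⟨(stalkAb X y).map (colimit.ι (diag F) S₀).hom
        ((↑u⁻¹ : X.presheaf.stalk y) • germM (sub S) W y hyW w), (hh S₀ _).trans ?_⟩
      refine (map_smul (stalkLin (incl S) y) (↑u⁻¹ : X.presheaf.stalk y) _).trans ?_
      rw [stalkLin_germ, hw, ← hgs, ← hu, smul_smul, Units.inv_mul, one_smul]
  haveI : IsIso m := by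
    haveI : IsIso ((QCohCat.isQCoh X).ι.map m) := ClUnit.isIso_of_stalks _ hb
    exact isIso_of_reflects_iso m (QCohCat.isQCoh X).ι
  exact ⟨IsColimit.ofPointIso hl (t := toF F)⟩

theorem isFP_of_isFinitelyPresentable [IsFinitelyPresentable.{u} F] :
    SheafOfModules.IsFinitePresentation.{u} F.obj := by
  haveI : F.obj.IsQuasicoherent := F.property
  have hFT : SheafOfModules.IsFiniteType.{u} F.obj := by
    obtain ⟨hc⟩ := nonempty_isColimit_toF F
    haveI := isDirected F
    haveI := nonempty_index F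
    obtain ⟨S, p, hp⟩ := IsFinitelyPresentable.exists_hom_of_isColimit hc (𝟙 F)
    have hp' : p.hom ≫ incl S.1 = 𝟙 F.obj := congrArg InducedCategory.Hom.hom hp
    haveI := isQuasicoherent_sub S.2
    haveI := isFiniteType_sub S.2
    refine (QCoh.isFiniteType_iff _).mpr fun W hW ↦ ?_
    haveI := QCoh.finite_sections_of_isFiniteType (sub S.1) hW
    refine Module.Finite.of_surjective (Noeth.appLin (incl S.1) W) fun s ↦ ⟨p.hom.app W s, ?_⟩
    exact congr(($hp').app W s)
  obtain ⟨J, _, _, _, D, ι, ⟨hc⟩, hfp, -⟩ := Props.QApproxMain.exists_colimit F.obj hFT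
  let D' : J ⥤ QCohCat.QCoh X := (QCohCat.isQCoh X).lift D fun j ↦
    haveI := hfp j
    show (D.obj j).IsQuasicoherent by
      obtain ⟨σ, -⟩ := (hfp j).exists_quasicoherentData
      exact σ.isQuasicoherent
  let c' : Cocone D' :=
    { pt := F
      ι := { app := fun j ↦ ObjectProperty.homMk (ι.app j)
             naturality := fun j j' f ↦ ObjectProperty.hom_ext _ (ι.naturality f) } }
  have hc' : IsColimit c' := isColimitOfReflects (QCohCat.isQCoh X).ι hc
  obtain ⟨j, p, hp⟩ := IsFinitelyPresentable.exists_hom_of_isColimit hc' (𝟙 F)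
  have hp' : p.hom ≫ ι.app j = 𝟙 F.obj := congrArg InducedCategory.Hom.hom hp
  haveI := hfp j
  haveI : (D.obj j).IsQuasicoherent := (D'.obj j).property
  refine (Props.QFP.isFP_iff F.obj).mpr fun W hW ↦ ?_
  have := (Props.QFP.isFP_iff (D.obj j)).mp (hfp j) W hW
  let s := Noeth.appLin (p.hom : F.obj ⟶ D.obj j) W
  let r := Noeth.appLin (ι.app j : D.obj j ⟶ F.obj) W
  have hrs : ∀ x, r (s x) = x := fun x ↦ congr(($hp').app W x)
  refine Module.finitePresentation_of_surjective r (fun x ↦ ⟨s x, hrs x⟩) ?_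
  have : LinearMap.ker r = LinearMap.range (LinearMap.id - s.comp r) := by
    refine le_antisymm ?_ ?_
    · intro x hx
      exact ⟨x, by simp [LinearMap.mem_ker.mp hx]⟩
    · rintro _ ⟨x, rfl⟩
      simp [hrs]
  rw [this]
  exact Module.Finite.iff_fg.mp (Module.Finite.range _)

end Groth.Agent.QCohGen.Presentable
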