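import Groth.Agent.QCoh.Exact
import Groth.Agent.ModShf.GrothAb
import Groth.Prelude.Def_QCohCat
import Mathlib.CategoryTheory.Abelian.Subcategory
import Mathlib.CategoryTheory.ObjectProperty.ColimitsOfShape

/-!
Quasi-coherent modules: an abelian subcategory closed under colimits, with exact filtered colimits.
-/

universe u

open CategoryTheory Limits AlgebraicGeometry

noncomputable section

namespace Groth.Agent.QCohGen

variable (X : Scheme.{u})

local notation "P" => QCohCat.isQCoh X

instance instClosedIso : ObjectProperty.IsClosedUnderIsomorphisms P where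
  of_iso {A B} e h := by
    haveI : A.IsQuasicoherent := h
    exact Groth.Agent.QCoh.isQuasicoherent_of_iso e

instance instKernels : ObjectProperty.IsClosedUnderKernels P where
  kernels_le := by
    rintro _ ⟨k, c, hk, hf⟩
    exact ObjectProperty.prop_of_iso P (IsLimit.conePointUniqueUpToIso (kernelIsKernel _) hk)
      (@QCoh.isQuasicoherent_kernel X _ _ k hf.1 hf.2)

instance instCokernels : ObjectProperty.IsClosedUnderCokernels P where
  cokernels_le := by
    rintro _ ⟨k, c, hk, hf⟩
    exact ObjectProperty.prop_of_iso P (IsColimit.coconePointUniqueUpToIso (cokernelIsCokernel _) hk)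
      (@QCoh.isQuasicoherent_cokernel X _ _ k hf.1 hf.2)

instance instColimits (J : Type u) [SmallCategory J] :
    ObjectProperty.IsClosedUnderColimitsOfShape P J :=
  .mk' (by
    rintro _ ⟨F, hF⟩
    haveI : ∀ j, (F.obj j).IsQuasicoherent := hF
    exact QCoh.isQuasicoherent_colimit F)

lemma prop_sigma {ι : Type u} (M : ι → X.Modules) (h : ∀ i, P (M i)) : P (∐ M) := by
  haveI : ∀ i, (M i).IsQuasicoherent := h
  exact QCoh.isQuasicoherent_coproduct M

instance instFiniteProducts : ObjectProperty.IsClosedUnderFiniteProducts P :=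
  .of_isClosedUnderLimitsOfShape.{u} fun J _ ↦ .mk' (by
    rintro _ ⟨F, hF⟩
    haveI := HasFiniteBiproducts.of_hasFiniteProducts (C := X.Modules)
    refine ObjectProperty.prop_of_iso P ?_ (prop_sigma X (fun j ↦ F.obj ⟨j⟩) fun j ↦ hF _)
    exact (biproduct.isoCoproduct _).symm ≪≫ biproduct.isoProduct _ ≪≫
      (HasLimit.isoOfNatIso Discrete.natIsoFunctor).symm)

instance instContainsZero : ObjectProperty.ContainsZero P where
  exists_zero := ⟨∐ (fun i : PEmpty.{u + 1} ↦ (i.elim : X.Modules)),
    (IsZero.iff_id_eq_zero _).mpr (Sigma.hom_ext _ _ fun i ↦ i.elim),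
    prop_sigma X _ fun i ↦ i.elim⟩

instance instAbelian : Abelian (QCohCat.QCoh X) :=
  inferInstanceAs (Abelian (ObjectProperty.FullSubcategory P))

instance instHasColimits : HasColimits (QCohCat.QCoh X) where
  has_colimits_of_shape J _ := inferInstance

instance instPreservesColimits (J : Type u) [SmallCategory J] :
    PreservesColimitsOfShape J (QCohCat.isQCoh X).ι := inferInstance

instance instPreservesFiniteLimits : PreservesFiniteLimits (QCohCat.isQCoh X).ι := by
  have : ∀ ⦃A B : QCohCat.QCoh X⦄ (f : A ⟶ B),
      PreservesLimit (parallelPair f 0) (QCohCat.isQCoh X).ι := ObjectProperty.preservesKernels_ι P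
  exact Functor.preservesFiniteLimits_of_preservesKernels _

instance instPreservesFiniteColimits : PreservesFiniteColimits (QCohCat.isQCoh X).ι := by
  have : ∀ ⦃A B : QCohCat.QCoh X⦄ (f : A ⟶ B),
      PreservesColimit (parallelPair f 0) (QCohCat.isQCoh X).ι :=
    ObjectProperty.preservesCokernels_ι P
  exact Functor.preservesFiniteColimits_of_preservesCokernels _

instance instExactColimits (J : Type u) [SmallCategory J] [IsFiltered J] :
    HasExactColimitsOfShape J (QCohCat.QCoh X) :=
  HasExactColimitsOfShape.domain_of_functor J (QCohCat.isQCoh X).ι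

instance instAB5 : AB5OfSize.{u, u} (QCohCat.QCoh X) where
  ofShape J _ _ := inferInstance

end Groth.Agent.QCohGen
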