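import Groth.Agent.Props.SubSheaf
import Groth.Agent.ModShf.GrothAb
import Groth.Agent.QCohGen.Closed
import Groth.Agent.AssSch.Stalk
import Mathlib.CategoryTheory.Subobject.Basic
import Mathlib.CategoryTheory.Limits.Shapes.Products

/-!
Every section of a quasi-coherent module lies in a quasi-coherent submodule of bounded size.
-/

universe u

open CategoryTheory Limits AlgebraicGeometry Opposite TopologicalSpace

noncomputable section

namespace Groth.Agent.QCohGen

open Groth.Agent.QCoh Groth.Agent.Props.QStalk Groth.Agent.PullStalk.Sky Groth.Agent.Props.SubMod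
  Groth.Agent.Props.SubSheaf

variable {X : Scheme.{u}}

/-- The indices of the sections needed to generate a quasi-coherent submodule. -/
inductive Path (U₀ : X.affineOpens) : X.affineOpens → Type u
  | base : Path U₀ U₀
  | step {V U : X.affineOpens} (f : Γ(X, U.1)) (h : X.basicOpen f ≤ V.1) (p : Path U₀ V) : Path U₀ U

variable {M : X.Modules}

/-- A stalkwise generated family gives a quasi-coherent subsheaf. -/
theorem isQuasicoherent_sub_of_genBy [M.IsQuasicoherent] {S : StalkSub M}
    (hS : ∀ V : X.affineOpens, ∃ T : Set Γ(M, V.1), GenBy S V.1 T) :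
    (sub S).IsQuasicoherent := by
  rw [isQuasicoherent_iff_forall_isAffineOpen]
  intro V hV f
  obtain ⟨T, hT⟩ := hS ⟨V, hV⟩
  refine ⟨fun σ => ?_, fun t ht => ?_⟩
  · obtain ⟨n, t, ht⟩ := (isLocalizingAt M hV f).surj ((incl S).app _ σ)
    obtain ⟨k, hk⟩ := exists_pow_smul_mem_span (s := T) hV f fun y hy => by
      rw [spanGerm, ← spanGerm, ← hT y (X.basicOpen_le f hy)]
      have e1 : germM M (X.basicOpen f) y hy (res M (X.basicOpen_le f) t) =
          germM M V y (X.basicOpen_le f hy) t :=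
        M.presheaf.germ_res_apply _ y hy t
      rw [← e1, ht, germM_smul]
      exact Submodule.smul_mem _ _ ((mem_range_incl S _).mp ⟨σ, rfl⟩ y hy)
    rw [← range_inclLin hV hT] at hk
    obtain ⟨t', ht'⟩ := hk
    change (incl S).app V t' = f ^ k • t at ht'
    refine ⟨k + n, t', incl_injective S _ ?_⟩
    rw [app_res, ht', res_smul, ht, map_pow, smul_smul, ← pow_add, Scheme.Modules.Hom.app_smul]
  · obtain ⟨n, hn⟩ := (isLocalizingAt M hV f).eq_zero ((incl S).app V t) (by
      rw [← app_res, ht, map_zero])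
    refine ⟨n, incl_injective S _ ?_⟩
    rw [Scheme.Modules.Hom.app_smul, hn, map_zero]

/-- The bound: on every affine open the sections are spanned by sections indexed by paths. -/
def Bdd (U₀ : X.affineOpens) (G : X.Modules) : Prop :=
  ∃ fam : ∀ U : X.affineOpens, Path U₀ U → Γ(G, U.1),
    ∀ U, Submodule.span Γ(X, U.1) (Set.range (fam U)) = ⊤

theorem exists_bdd_sub (F : X.Modules) [F.IsQuasicoherent] (U₀ : X.affineOpens) (s₀ : Γ(F, U₀.1)) :
    ∃ (G : X.Modules) (g : G ⟶ F), Mono g ∧ G.IsQuasicoherent ∧ Bdd U₀ G ∧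
      s₀ ∈ Set.range (g.app U₀.1) := by
  choose n lift hlift using fun (V U : X.affineOpens) (f : Γ(X, U.1)) (h : X.basicOpen f ≤ V.1)
    (t : Γ(F, V.1)) ↦ (isLocalizingAt F U.2 f).surj (res F h t)
  let rec' : ∀ U, Path U₀ U → Γ(F, U.1) := fun U p ↦
    Path.rec (motive := fun U _ ↦ Γ(F, U.1)) s₀ (fun {V U} f h _ t ↦ lift V U f h t) p
  let S : StalkSub F := fun y ↦ Submodule.span _
    {t | ∃ (U : X.affineOpens) (p : Path U₀ U) (hy : y ∈ U.1), t = germM F U.1 y hy (rec' U p)}
  have hgen : ∀ U : X.affineOpens, GenBy S U.1 (Set.range (rec' U)) := by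
    intro U y hy
    refine le_antisymm (Submodule.span_le.mpr ?_) (Submodule.span_le.mpr ?_)
    · rintro _ ⟨V, p, hyV, rfl⟩
      obtain ⟨f, hfV, hyf⟩ := U.2.exists_basicOpen_le ⟨y, hyV⟩ hy
      have e : germM F U.1 y hy (rec' U (.step f hfV p)) =
          X.presheaf.germ U.1 y hy f ^ n V U f hfV (rec' V p) • germM F V.1 y hyV (rec' V p) := by
        have h1 := congrArg (germM F (X.basicOpen f) y hyf) (hlift V U f hfV (rec' V p))
        rw [germM_smul, map_pow] at h1
        refine ((F.presheaf.germ_res_apply _ y hyf _).symm.trans h1).trans ?_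
        refine congrArg₂ (fun a b => a ^ _ • b) ?_ ?_
        · exact X.presheaf.germ_res_apply _ y hyf f
        · exact F.presheaf.germ_res_apply _ y hyf _
      obtain ⟨u, hu⟩ := (isUnit_germ hyf).pow (n V U f hfV (rec' V p))
      have hmem : germM F U.1 y hy (rec' U (.step f hfV p)) ∈ spanGerm (Set.range (rec' U)) y hy :=
        Submodule.subset_span ⟨rec' U (.step f hfV p), ⟨.step f hfV p, rfl⟩, rfl⟩
      rw [e, ← hu] at hmem
      have := Submodule.smul_mem _ (↑u⁻¹ : X.presheaf.stalk y) hmem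
      rwa [smul_smul, Units.inv_mul, one_smul] at this
    · rintro _ ⟨_, ⟨p, rfl⟩, rfl⟩
      exact Submodule.subset_span ⟨U, p, hy, rfl⟩
  have hqc := isQuasicoherent_sub_of_genBy (S := S) fun U ↦ ⟨_, hgen U⟩
  have hmem : ∀ U p, rec' U p ∈ Set.range ((incl S).app U.1) := fun U p ↦
    (mem_range_incl S _).mpr fun y hy ↦ Submodule.subset_span ⟨U, p, hy, rfl⟩
  choose fam hfam using hmem
  refine ⟨sub S, incl S, inferInstance, hqc, ⟨fam, fun U ↦ ?_⟩, ⟨fam U₀ .base, hfam U₀ .base⟩⟩
  refine Submodule.map_injective_of_injective (f := inclLin S U.1) (incl_injective S U.1) ?_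
  rw [Submodule.map_span, Submodule.map_top, range_inclLin U.2 (hgen U), ← Set.range_comp]
  exact congrArg (fun w ↦ Submodule.span _ (Set.range w)) (funext fun p ↦ hfam U p)

/-- A chosen affine neighbourhood. -/
def nhd (x : X) : {U : X.affineOpens // x ∈ U.1} :=
  ⟨⟨_, (exists_isAffineOpen_mem_and_subset (Opens.mem_top x)).choose_spec.1⟩,
    (exists_isAffineOpen_mem_and_subset (Opens.mem_top x)).choose_spec.2.1⟩

/-- The free stalk module receiving the generators. -/
abbrev freeAt (U₀ : X.affineOpens) (x : X) : Type u := Path U₀ (nhd x).1 →₀ X.presheaf.stalk x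

/-- The relations of a bounded module. -/
abbrev Rel (U₀ : X.affineOpens) : Type u :=
  ∀ x : X, Submodule (X.presheaf.stalk x) (freeAt U₀ x)

/-- The ambient module of a relation datum. -/
abbrev amb (U₀ : X.affineOpens) (R : Rel U₀) : X.Modules :=
  ∏ᶜ fun x : X ↦ sky x (freeAt U₀ x ⧸ R x)

theorem exists_subobject_iso_of_bdd (G : X.Modules) [G.IsQuasicoherent] {U₀ : X.affineOpens}
    (hG : Bdd U₀ G) :
    ∃ (R : Rel U₀) (T : Subobject (amb U₀ R)), Nonempty ((T : X.Modules) ≅ G) := by
  obtain ⟨fam, hfam⟩ := hG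
  let π : ∀ x : X, freeAt U₀ x →ₗ[X.presheaf.stalk x] G.presheaf.stalk x := fun x ↦
    Finsupp.linearCombination _ fun p ↦ germM G (nhd x).1.1 x (nhd x).2 (fam _ p)
  have hπ : ∀ x, Function.Surjective (π x) := fun x t ↦ by
    obtain ⟨g, s, hg, hgs⟩ :=
      AssSch.Stalk.exists_germ_smul_eq G (nhd x).1.2 x (nhd x).2 t
    replace hg := (AssSch.Stalk.isUnit_germ_iff (nhd x).1.2 x (nhd x).2 g).mpr hg
    have hs : germM G (nhd x).1.1 x (nhd x).2 s ∈ LinearMap.range (π x) := by
      rw [Finsupp.range_linearCombination]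
      have := germ_mem_spanGerm_of_mem_span (M := G) (s := Set.range (fam (nhd x).1))
        (m := s) (by rw [hfam]; exact Submodule.mem_top) x (nhd x).2
      rwa [spanGerm, ← Set.range_comp] at this
    obtain ⟨u, hu⟩ := hg
    obtain ⟨v, hv⟩ := hs
    refine ⟨(↑u⁻¹ : X.presheaf.stalk x) • v, ?_⟩
    rw [map_smul, hv, ← hgs, ← hu, smul_smul, Units.inv_mul, one_smul]
  let R : Rel U₀ := fun x ↦ LinearMap.ker (π x)
  let e : ∀ x, (freeAt U₀ x ⧸ R x) ≃ₗ[X.presheaf.stalk x] G.presheaf.stalk x := fun x ↦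
    (π x).quotKerEquivOfSurjective (hπ x)
  let ι : G ⟶ amb U₀ R := Pi.lift fun x ↦ toSky (e x).symm.toLinearMap
  have hinj : ∀ V : X.Opens, Function.Injective (ι.app V) := fun V ↦ by
    rw [injective_iff_map_eq_zero]
    intro s hs
    refine TopCat.Presheaf.section_ext (⟨G.presheaf, G.isSheaf⟩ : TopCat.Sheaf AddCommGrpCat X)
      V _ _ fun y hy ↦ ?_
    refine Eq.trans ?_ (map_zero (G.presheaf.germ V y hy).hom).symm
    apply (e y).symm.injective
    rw [map_zero]
    have h0 : (ι ≫ Pi.π (fun x : X ↦ sky x (freeAt U₀ x ⧸ R x)) y).app V s = 0 := by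
      rw [Scheme.Modules.Hom.comp_app, ConcreteCategory.comp_apply, hs, map_zero]
    rw [Pi.lift_π] at h0
    exact (toSky_app (e y).symm.toLinearMap V s ⟨hy⟩).symm.trans (congr_fun h0 ⟨hy⟩)
  haveI : Mono ι := by
    constructor
    intro Z a b hab
    ext V s
    exact hinj V (congr($(hab).app V s))
  exact ⟨R, Subobject.mk ι, ⟨Subobject.underlyingIso ι⟩⟩

end Groth.Agent.QCohGen
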